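import Cfsg.Agent.H461.HT.Perm
import Cfsg.Agent.Nodes.NormalForm

/-!
# Constituents of parabolic permutation characters in the principal block (helper461, for S4933)

`mem_principal_PJ` : `R : RGD cs h p T n X`, `D ≤ T` an `ℓ`-group with `C(D) ≤ T` (`ℓ ∣ q - 1`): every constituent of
`1_{P_J}^Y` is in the principal `ℓ`-block.
-/

set_option autoImplicit false
set_option linter.unusedSectionVars false

namespace Cfsg.Agent.H461.HT

open Cfsg Subgroup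
open CoxeterSystem Cfsg.Agent.ChevalleyStructure.CoxeterGeom Cfsg.Agent.Tits.Roots Cfsg.Agent.Tits.Core
  Cfsg.Agent.Nodes.Reps Cfsg.Agent.Nodes.BNOf Cfsg.Agent.Nodes.StabComb
  Cfsg.Agent.Nodes.Bruhat Cfsg.Agent.Nodes.OppDec Cfsg.Agent.Nodes.LeviDec Cfsg.Agent.Nodes.NormalForm

universe u

variable {I W : Type*} {Y : Type u} [Fintype I] [DecidableEq I] [Group W] [Finite W] [Group Y] [Finite Y]
  {M : CoxeterMatrix I} {cs : CoxeterSystem M W} {A : I → I → ℤ} {h : IsCartan M A} {p : ℕ} {T : Subgroup Y}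
  {n : I → Y} {X : (I → ℤ) → Subgroup Y}

/-- **`ℓ ∣ q - 1`** : all constituents of `1_{P_J}^Y` are in the principal `ℓ`-block. -/
theorem mem_principal_PJ (R : RGD cs h p T n X) (hG : GG cs h T X = ⊤) {ℓ : ℕ} {D : Subgroup Y} (hD : IsPGroup ℓ D)
    (hDT : D ≤ T) (hC : centralizer (D : Set Y) ≤ T) {N : Ideal AlgInt} (hN : IsPModular ℓ N) (J : Set I)
    {χ : IrrCharacter Y} (hχ : ∑ᶠ x : PJ cs h T X J, (χ : Y → ℂ) x ≠ 0) : χ ∈ principalBlock N Y := by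
  have hTP : T ≤ PJ cs h T X J := le_trans RGD.T_le_B B_le_PJ
  refine mem_principal_of_perm hN hD (hC.trans hTP) (hDT.trans hTP) (fun g => ?_) hχ
  obtain ⟨w, hw⟩ := (mem_GG R).1 (show g ∈ GG cs h T X by rw [hG]; exact Subgroup.mem_top g)
  obtain ⟨u, hu, k, hk, v, hv, e⟩ := exists_normal_form R hw
  have hvU : v ∈ RGD.Sup X (RGD.Pos cs h) :=
    RGD.Sup_mono (S := NW cs h w) (S' := RGD.Pos cs h) (fun x hx => ⟨hx.1, hx.2.1⟩) hv
  refine ⟨u⁻¹, inv_mem (B_le_PJ (RGD.U_le_B hu)), v⁻¹, inv_mem (B_le_PJ (RGD.U_le_B hvU)), fun d hd => hTP ?_⟩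
  have e1 : u⁻¹ * g * v⁻¹ = k := by
    rw [e]
    group
  rw [e1]
  have h2 : k⁻¹ * d * k⁻¹⁻¹ ∈ cj k⁻¹ T := conj_mem_cj.2 (hDT hd)
  rwa [cj_T R hk.inv, inv_inv] at h2

end Cfsg.Agent.H461.HT
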