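import Cfsg.Agent.Blocks.BlockPart
import Cfsg.Agent.Blocks.BlockIdem
import Cfsg.Agent.Blocks.Osima
import Cfsg.Agent.Blocks.OrbitSum
import Cfsg.Agent.Blocks.PrincipalSection

/-!
# Constituents of a permutation character in the principal block (helper461, for S4933)

`mem_principal_of_perm` : `D ≤ H`, `D` a `p`-group, `C_G(D) ≤ H`, every double coset of `H` contains `y` with
`y⁻¹ D y ≤ H`. Then every constituent of `1_H^G` is in the principal `p`-block.
-/

set_option autoImplicit false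
set_option linter.unusedSectionVars false

namespace Cfsg.Agent.H461.HT

open Cfsg Subgroup
open Cfsg.Agent.Blocks.LocalRing
open scoped ComplexConjugate

universe u

variable {G : Type u} [Group G] [Finite G] {p : ℕ} {M : Ideal AlgInt}

/-- the sum of the coefficients of the block idempotent over the coset `y H` -/
noncomputable def cs (H : Subgroup G) (e : G → ℂ) (y : G) : ℂ := ∑ᶠ h : H, e (y * h)

theorem cs_eq [Fintype G] (H : Subgroup G) [Fintype H] (e : G → ℂ) (y : G) : cs H e y = ∑ h : H, e (y * h) :=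
  finsum_eq_sum_of_fintype _

theorem cs_mul_right (H : Subgroup G) (e : G → ℂ) (y : G) {k : G} (hk : k ∈ H) : cs H e (y * k) = cs H e y := by
  classical
  have := Fintype.ofFinite G
  rw [cs_eq, cs_eq]
  refine Fintype.sum_equiv (Equiv.mulLeft (⟨k, hk⟩ : H)) _ _ fun h => ?_
  rw [Equiv.coe_mulLeft, Subgroup.coe_mul, mul_assoc]

theorem cs_mul_left (H : Subgroup G) {e : G → ℂ} (he : ∀ x g, e (x * g * x⁻¹) = e g) (y : G) {k : G} (hk : k ∈ H) :
    cs H e (k * y) = cs H e y := by
  classical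
  have := Fintype.ofFinite G
  rw [cs_eq, cs_eq]
  refine Fintype.sum_equiv (Equiv.mulRight (⟨k, hk⟩ : H)) _ _ fun h => ?_
  rw [Equiv.coe_mulRight, Subgroup.coe_mul, ← he k⁻¹]
  congr 1
  group

/-- the value on the coset of `y`, modulo the ideal -/
theorem cs_eq_filter [Fintype G] [DecidableEq G] (H : Subgroup G) [DecidablePred (· ∈ H)] (e : G → ℂ) (y : G) :
    cs H e y = ∑ g ∈ Finset.univ.filter (fun g => y⁻¹ * g ∈ H), e g := by
  rw [cs_eq]
  refine Finset.sum_bij' (fun h _ => y * (h : G)) (fun g hg => ⟨y⁻¹ * g, (Finset.mem_filter.1 hg).2⟩) ?_ ?_ ?_ ?_ ?_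
  · intro h _
    rw [Finset.mem_filter]
    exact ⟨Finset.mem_univ _, by rw [inv_mul_cancel_left]; exact h.2⟩
  · intro g _
    exact Finset.mem_univ _
  · intro h _
    exact Subtype.ext (inv_mul_cancel_left y (h : G))
  · intro g _
    exact mul_inv_cancel_left y g
  · intro h _
    rfl

section Key

variable (hM : IsPModular p M) {e : G → ℂ} (he : ∀ x g, e (x * g * x⁻¹) = e g) (heR : ∀ g, MemLocalRing M (e g))
  {H D : Subgroup G} (hD : IsPGroup p D)

include hM he heR hD

theorem sum_mem_ideal [Fintype G] (X : Finset G) (hX : ∀ u ∈ D, ∀ x ∈ X, u * x * u⁻¹ ∈ X)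
    (hXC : ∀ x ∈ X, x ∉ centralizer (D : Set G)) : MemLocalIdeal M (∑ x ∈ X, e x) := by
  have : Fact p.Prime := ⟨prime hM⟩
  let f : G → locRing hM := fun g => ⟨e g, heR g⟩
  obtain ⟨a, ha⟩ := Cfsg.Agent.Blocks.OrbitSum.sum_eq_smul_of_disjoint_centralizer D hD X hX hXC f
    (fun u _ x _ => Subtype.ext (he u x))
  have h1 := congrArg (Subtype.val) ha
  rw [AddSubmonoidClass.coe_finsetSum] at h1
  change ∑ x ∈ X, e x = _ at h1
  rw [h1, nsmul_eq_mul]
  change MemLocalIdeal M (((p : locRing hM) * a : locRing hM) : ℂ)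
  rw [Subring.coe_mul]
  exact memLocalIdeal_mul_right hM (by simpa using memLocalIdeal_prime hM) a.2

/-- the coset of an element outside `H` -/
theorem cs_mem_of_notMem (hC : centralizer (D : Set G) ≤ H) (hDH : D ≤ H) {y : G} (hy : ∀ d ∈ D, y⁻¹ * d * y ∈ H)
    (hyH : y ∉ H) : MemLocalIdeal M (cs H e y) := by
  classical
  have := Fintype.ofFinite G
  rw [cs_eq_filter]
  refine sum_mem_ideal hM he heR hD _ ?_ ?_
  · intro u hu x hx
    rw [Finset.mem_filter] at hx ⊢
    refine ⟨Finset.mem_univ _, ?_⟩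
    rw [show y⁻¹ * (u * x * u⁻¹) = y⁻¹ * u * y * (y⁻¹ * x) * u⁻¹ by group]
    exact H.mul_mem (H.mul_mem (hy u hu) hx.2) (H.inv_mem (hDH hu))
  · intro x hx hxC
    rw [Finset.mem_filter] at hx
    apply hyH
    have h1 := H.mul_mem (hC hxC) (H.inv_mem hx.2)
    rwa [mul_inv_rev, inv_inv, mul_inv_cancel_left] at h1

/-- the coset `H` -/
theorem cs_mem_one (hC : centralizer (D : Set G) ≤ H) (hDH : D ≤ H) (h0 : ∑ᶠ g : G, e g = 0) :
    MemLocalIdeal M (cs H e 1) := by
  classical
  have := Fintype.ofFinite G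
  rw [cs_eq_filter]
  rw [finsum_eq_sum_of_fintype] at h0
  have h1 : ∑ g ∈ Finset.univ.filter (fun g : G => (1 : G)⁻¹ * g ∈ H), e g =
      - ∑ g ∈ Finset.univ.filter (fun g : G => ¬ (1 : G)⁻¹ * g ∈ H), e g := by
    rw [eq_neg_iff_add_eq_zero, Finset.sum_filter_add_sum_filter_not]
    exact h0
  rw [h1]
  refine memLocalIdeal_neg (sum_mem_ideal hM he heR hD _ ?_ ?_)
  · intro u hu x hx
    rw [Finset.mem_filter] at hx ⊢
    refine ⟨Finset.mem_univ _, fun h => hx.2 ?_⟩
    rw [inv_one, one_mul] at h ⊢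
    have h1 := H.mul_mem (H.mul_mem (H.inv_mem (hDH hu)) h) (hDH hu)
    rwa [show u⁻¹ * (u * x * u⁻¹) * u = x by group] at h1
  · intro x hx hxC
    rw [Finset.mem_filter, inv_one, one_mul] at hx
    exact hx.2 (hC hxC)

end Key

/-- the sum over the group in terms of the cosets -/
theorem sum_quot [Fintype G] (H : Subgroup G) [Fintype H] [Fintype (G ⧸ H)] (F : G → ℂ) :
    ∑ g, F g = ∑ q : G ⧸ H, ∑ h : H, F (q.out * h) := by
  classical
  rw [← Finset.sum_fiberwise (s := Finset.univ) (g := fun g : G => (g : G ⧸ H)) (f := F)]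
  refine Finset.sum_congr rfl fun q _ => ?_
  symm
  refine Finset.sum_bij' (fun h _ => q.out * (h : G)) (fun g hg => ⟨q.out⁻¹ * g, ?_⟩) ?_ ?_ ?_ ?_ ?_
  · rw [← QuotientGroup.eq, QuotientGroup.out_eq']
    exact (Finset.mem_filter.1 hg).2.symm
  · intro h _
    rw [Finset.mem_filter]
    refine ⟨Finset.mem_univ _, ?_⟩
    rw [QuotientGroup.mk_mul_of_mem _ h.2, QuotientGroup.out_eq']
  · intro g _
    exact Finset.mem_univ _
  · intro h _
    exact Subtype.ext (inv_mul_cancel_left q.out (h : G))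
  · intro g _
    exact mul_inv_cancel_left q.out g
  · intro h _
    rfl

/-- **the matrix of the idempotent on `G / H` is not zero modulo the ideal** -/
theorem exists_not_mem (hM : IsPModular p M) {e : G → ℂ} (he : ∀ x g, e (x * g * x⁻¹) = e g) (H : Subgroup G)
    {χ : G → ℂ} (heχ : ∀ y, ∑ᶠ k : G, e k * χ (k * y) = χ y) (h0 : ∑ᶠ h : H, χ h ≠ 0) :
    ∃ g, ¬ MemLocalIdeal M (cs H e g) := by
  classical
  by_contra hcon
  push Not at hcon
  have := Fintype.ofFinite G
  have := Fintype.ofFinite H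
  have := Fintype.ofFinite (G ⧸ H)
  let v : G ⧸ H → ℂ := fun q => ∑ h : H, χ (q.out * h)
  have hv : ∀ g : G, ∑ h : H, χ (g * h) = v (g : G ⧸ H) := by
    intro g
    obtain ⟨k, hk⟩ := QuotientGroup.mk_out_eq_mul H g
    change _ = ∑ h : H, χ ((g : G ⧸ H).out * h)
    rw [hk]
    symm
    refine Fintype.sum_equiv (Equiv.mulLeft k) _ _ fun h => ?_
    rw [Equiv.coe_mulLeft, Subgroup.coe_mul, mul_assoc]
  have hv0 : v ≠ 0 := by
    intro h
    apply h0
    have h1 := congrFun h ((1 : G) : G ⧸ H)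
    rw [← hv, Pi.zero_apply] at h1
    rw [finsum_eq_sum_of_fintype]
    simpa using h1
  let E : Matrix (G ⧸ H) (G ⧸ H) (locRing hM) := fun x y =>
    ⟨cs H e (x.out⁻¹ * y.out), memLocalIdeal_memLocalRing (hcon _)⟩
  have hE : ∀ x y, ((E x y : locRing hM) : ℂ) = cs H e (x.out⁻¹ * y.out) := fun _ _ => rfl
  have hmul : (1 - E.map (locRing hM).subtype).mulVec v = 0 := by
    rw [Matrix.sub_mulVec, Matrix.one_mulVec, sub_eq_zero]
    symm
    funext x
    change ∑ y, ((E x y : locRing hM) : ℂ) * v y = v x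
    have h1 : v x = ∑ g, e (x.out⁻¹ * g) * v (g : G ⧸ H) := by
      have h2 : ∀ g, e (x.out⁻¹ * g) = e (g * x.out⁻¹) := by
        intro g
        rw [← he x.out (x.out⁻¹ * g)]
        congr 1
        group
      have h3 : ∀ h : H, χ (x.out * h) = ∑ k, e k * χ (k * (x.out * h)) := by
        intro h
        rw [← heχ (x.out * h), finsum_eq_sum_of_fintype]
      change ∑ h : H, χ (x.out * h) = _
      rw [Finset.sum_congr rfl fun h _ => h3 h, Finset.sum_comm]
      refine Fintype.sum_equiv (Equiv.mulRight x.out) _ _ fun k => ?_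
      rw [Equiv.coe_mulRight, h2, mul_inv_cancel_right, ← hv, Finset.mul_sum]
      refine Finset.sum_congr rfl fun h _ => ?_
      rw [mul_assoc]
    rw [h1, sum_quot H]
    refine Finset.sum_congr rfl fun y _ => ?_
    rw [hE, cs_eq, Finset.sum_mul]
    refine Finset.sum_congr rfl fun h _ => ?_
    rw [QuotientGroup.mk_mul_of_mem _ h.2, QuotientGroup.out_eq', mul_assoc]
  have hdet : (1 - E.map (locRing hM).subtype).det = 0 := by
    rw [← Matrix.exists_mulVec_eq_zero_iff]
    exact ⟨v, hv0, hmul⟩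
  have h1 : (1 - E.map (locRing hM).subtype) = (1 - E).map (locRing hM).subtype := by
    rw [Matrix.map_sub _ (fun a b => map_sub _ a b), Matrix.map_one _ (map_zero _) (map_one _)]
  rw [h1, ← RingHom.mapMatrix_apply, ← RingHom.map_det] at hdet
  have h2 : (1 - E).det = 0 := by
    have h3 : ((1 - E).det : ℂ) = ((0 : locRing hM) : ℂ) := hdet
    exact Subtype.ext h3
  have h4 := congrArg (Ideal.Quotient.mk (locIdeal hM)) h2
  rw [map_zero, RingHom.map_det] at h4
  have h5 : (Ideal.Quotient.mk (locIdeal hM)).mapMatrix (1 - E) = 1 := by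
    rw [map_sub, map_one, sub_eq_self]
    ext x y
    exact Ideal.Quotient.eq_zero_iff_mem.2 (hcon _)
  rw [h5, Matrix.det_one] at h4
  have h6 : (1 : locRing hM) ∈ locIdeal hM := by
    rw [← Ideal.Quotient.eq_zero_iff_mem, map_one]
    exact h4
  exact not_memLocalIdeal_one hM h6

/-- the block idempotent acts trivially on the characters of the block -/
theorem sum_blockCoeff {B : Set (IrrCharacter G)} {χ : IrrCharacter G} (hχ : χ ∈ B) (y : G) :
    ∑ᶠ k : G, blockCoeff B k * (χ : G → ℂ) (k * y) = (χ : G → ℂ) y := by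
  classical
  have := Fintype.ofFinite G
  have : Finite (IrrCharacter G) := Cfsg.Agent.Characters.Core.finite_irr
  have := Fintype.ofFinite (IrrCharacter G)
  rw [finsum_eq_sum_of_fintype, ← Cfsg.Agent.Blocks.BlockPart.blockPart_eq_sum B
    (Cfsg.Agent.Blocks.Basic.irr_isClassFunction χ.2) y]
  have h1 : blockPart B (χ : G → ℂ) y = ∑ᶠ ψ ∈ B, classInner (χ : G → ℂ) (ψ : G → ℂ) * (ψ : G → ℂ) y := by
    unfold blockPart
    refine finsum_mem_congr rfl fun χ _ => ?_
    congr 1
    convert rfl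
  have h2 : ∑ᶠ ψ ∈ B, classInner (χ : G → ℂ) (ψ : G → ℂ) * (ψ : G → ℂ) y =
      ∑ ψ ∈ Finset.univ.filter (· ∈ B), classInner (χ : G → ℂ) (ψ : G → ℂ) * (ψ : G → ℂ) y := by
    rw [finsum_mem_eq_toFinset_sum]
    refine Finset.sum_congr ?_ fun _ _ => rfl
    ext ψ
    simp
  rw [h1, h2, Finset.sum_eq_single χ]
  · rw [Cfsg.Agent.Characters.Core.classInner_irr_self χ.2, one_mul]
  · intro ψ _ hne
    rw [Cfsg.Agent.Characters.Core.classInner_irr_ne χ.2 ψ.2 fun h' => hne (Subtype.ext h'.symm), zero_mul]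
  · intro h
    simp [hχ] at h

theorem blockCoeff_conj (B : Set (IrrCharacter G)) (x g : G) : blockCoeff B (x * g * x⁻¹) = blockCoeff B g :=
  (Cfsg.Agent.Blocks.Basic.blockCoeff_isConj B (isConj_iff.2 ⟨x, rfl⟩)).symm

/-- the sum of the coefficients of the idempotent of a nonprincipal block -/
theorem sum_eq_zero (hM : IsPModular p M) {B : Set (IrrCharacter G)} (hB : IsPBlock M B)
    (h : B ≠ principalBlock M G) : ∑ᶠ g : G, blockCoeff B g = 0 := by
  classical
  have := Fintype.ofFinite G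
  have hMp : M.IsPrime := isPrime hM
  have h1 := Cfsg.Agent.Blocks.BlockIdem.lin_blockCoeff B
    (⟨fun _ => 1, Cfsg.Agent.Blocks.Basic.isIrrCharacter_one⟩ : IrrCharacter G)
  rw [if_neg, Cfsg.Agent.Blocks.ConvCentral.lin_def] at h1
  · rw [finsum_eq_sum_of_fintype]
    simpa using h1
  · intro h2
    have h3 : IsPBlock M (principalBlock M G) := Cfsg.Agent.Blocks.Basic.isPBlock_blockOf
      (⟨fun _ => 1, Cfsg.Agent.Blocks.Basic.isIrrCharacter_one⟩ : IrrCharacter G)
    have h4 : (⟨fun _ => 1, Cfsg.Agent.Blocks.Basic.isIrrCharacter_one⟩ : IrrCharacter G) ∈ principalBlock M G :=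
      Cfsg.Agent.Blocks.PrincipalSection.one_mem_principalBlock
    exact h (Cfsg.Agent.Blocks.Basic.isPBlock_eq_of_mem hB h3 h2 h4)

/-- **The diagonal test** : for a block different from the principal block, the coefficient of the identity -/
theorem diag_mem (hM : IsPModular p M) {B : Set (IrrCharacter G)} (hB : IsPBlock M B) (h : B ≠ principalBlock M G)
    {H D : Subgroup G} (hD : IsPGroup p D) (hC : centralizer (D : Set G) ≤ H) (hDH : D ≤ H) :
    MemLocalIdeal M (∑ᶠ x : H, blockCoeff B x) := by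
  have h1 := cs_mem_one hM (blockCoeff_conj B) (Cfsg.Agent.Blocks.Osima.memLocalRing_blockCoeff hM hB) hD hC hDH
    (sum_eq_zero hM hB h)
  unfold cs at h1
  simpa using h1

/-- **Constituents of a permutation character in the principal block.** -/
theorem mem_principal_of_perm (hM : IsPModular p M) {H D : Subgroup G} (hD : IsPGroup p D)
    (hC : centralizer (D : Set G) ≤ H) (hDH : D ≤ H)
    (hdc : ∀ g : G, ∃ h₁ ∈ H, ∃ h₂ ∈ H, ∀ d ∈ D, (h₁ * g * h₂)⁻¹ * d * (h₁ * g * h₂) ∈ H)
    {χ : IrrCharacter G} (hχ : ∑ᶠ h : H, (χ : G → ℂ) h ≠ 0) : χ ∈ principalBlock M G := by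
  have hMp : M.IsPrime := isPrime hM
  by_contra hcon
  have hB : IsPBlock M (blockOf M (χ : G → ℂ)) := Cfsg.Agent.Blocks.Basic.isPBlock_blockOf χ
  have hχB : χ ∈ blockOf M (χ : G → ℂ) := Cfsg.Agent.Blocks.Basic.mem_blockOf_self χ
  have hne : blockOf M (χ : G → ℂ) ≠ principalBlock M G := fun h => hcon (h ▸ hχB)
  have he := blockCoeff_conj (blockOf M (χ : G → ℂ))
  have heR := Cfsg.Agent.Blocks.Osima.memLocalRing_blockCoeff hM hB
  obtain ⟨g, hg⟩ := exists_not_mem hM he H (sum_blockCoeff hχB) hχ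
  apply hg
  obtain ⟨h₁, hh₁, h₂, hh₂, hy⟩ := hdc g
  rw [← cs_mul_left H he g hh₁, ← cs_mul_right H _ (h₁ * g) hh₂]
  by_cases hyH : h₁ * g * h₂ ∈ H
  · have h3 := cs_mem_one hM he heR hD hC hDH (sum_eq_zero hM hB hne)
    rw [← cs_mul_right H _ 1 hyH, one_mul] at h3
    exact h3
  · exact cs_mem_of_notMem hM he heR hD hC hDH hy hyH

end Cfsg.Agent.H461.HT
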